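import Cfsg.Agent.H377.CV.ToolC

/-!
# The Borel subgroup of `PSU_3(q)`, abstractly (helper377, for S3442, X15)
-/

set_option autoImplicit false
set_option linter.unusedSectionVars false

namespace Cfsg.Agent.H377.CV

open Finset

universe u v w

/-- the Borel subgroup `Q : tau` of `PSU_3(q)`: `al` the coordinate of `Q / Z`, `ze` the coordinate of `Z` -/
structure BU3 {L : Type v} [Group L] {F : Type w} [Field F] (q : ℕ) (Q Z : Subgroup L) (tau : Fˣ →* L)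
    (al ze : L → F) : Prop where
  ZQ : Z ≤ Q
  central : ∀ e ∈ Q, ∀ z ∈ Z, e * z = z * e
  al_mul : ∀ e ∈ Q, ∀ f ∈ Q, al (e * f) = al e + al f
  al_zero : ∀ e ∈ Q, (al e = 0 ↔ e ∈ Z)
  al_surj : ∀ a : F, ∃ e ∈ Q, al e = a
  ze_mul : ∀ z ∈ Z, ∀ z' ∈ Z, ze (z * z') = ze z + ze z'
  ze_inj : ∀ z ∈ Z, ze z = 0 → z = 1
  ze_skew : ∀ z ∈ Z, ze z ^ q = - ze z
  ze_surj : ∀ b : F, b ^ q = -b → ∃ z ∈ Z, ze z = b
  tau_Q : ∀ t : Fˣ, ∀ e ∈ Q, tau t * e * (tau t)⁻¹ ∈ Q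
  tau_al : ∀ t : Fˣ, ∀ e ∈ Q, (t : F) ^ q * al (tau t * e * (tau t)⁻¹) = (t : F) ^ 2 * al e
  tau_ze : ∀ t : Fˣ, ∀ z ∈ Z, ze (tau t * z * (tau t)⁻¹) = (t : F) ^ (q + 1) * ze z
  comm : ∀ e ∈ Q, ∀ f ∈ Q, e * f * e⁻¹ * f⁻¹ ∈ Z ∧ ze (e * f * e⁻¹ * f⁻¹) = al e * al f ^ q - al f * al e ^ q
  tau_ker : ∀ t : Fˣ, tau t = 1 ↔ t ^ 3 = 1 ∧ t ^ (q + 1) = 1

namespace BU3

variable {L : Type v} [Group L] {F : Type w} [Field F] {q : ℕ} {Q Z : Subgroup L} {tau : Fˣ →* L} {al ze : L → F}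
  (S : BU3 q Q Z tau al ze)
include S

theorem al_inv {e : L} (he : e ∈ Q) : al e⁻¹ = - al e := by
  have h := S.al_mul e he e⁻¹ (Q.inv_mem he)
  rw [mul_inv_cancel, (S.al_zero 1 Q.one_mem).2 Z.one_mem] at h
  exact (neg_eq_of_add_eq_zero_right h.symm).symm

theorem ze_one : ze 1 = 0 := by
  have h := S.ze_mul 1 Z.one_mem 1 Z.one_mem
  rw [mul_one] at h
  exact left_eq_add.1 h

theorem ze_inv {e : L} (he : e ∈ Z) : ze e⁻¹ = - ze e := by
  have h := S.ze_mul e he e⁻¹ (Z.inv_mem he)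
  rw [mul_inv_cancel, S.ze_one] at h
  exact (neg_eq_of_add_eq_zero_right h.symm).symm

theorem ze_ext {z z' : L} (hz : z ∈ Z) (hz' : z' ∈ Z) (h : ze z = ze z') : z = z' := by
  have h1 := S.ze_inj (z * z'⁻¹) (Z.mul_mem hz (Z.inv_mem hz')) (by
    rw [S.ze_mul z hz _ (Z.inv_mem hz'), S.ze_inv hz', h, add_neg_cancel])
  exact mul_inv_eq_one.1 h1

theorem tau_Z (t : Fˣ) {z : L} (hz : z ∈ Z) : tau t * z * (tau t)⁻¹ ∈ Z := by
  rw [← S.al_zero _ (S.tau_Q t z (S.ZQ hz))]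
  have h := S.tau_al t z (S.ZQ hz)
  rw [(S.al_zero z (S.ZQ hz)).2 hz, mul_zero] at h
  exact (mul_eq_zero.1 h).resolve_left (pow_ne_zero _ t.ne_zero)

theorem commZ : ∀ a ∈ Z, ∀ b ∈ Z, a * b = b * a := fun a ha b hb => S.central a (S.ZQ ha) b hb

theorem card_Q [Finite L] [Fintype F] (hF : Fintype.card F = q ^ 2) : Nat.card Q = q ^ 2 * Nat.card Z := by
  let f : Q →* Multiplicative F :=
    { toFun := fun e => Multiplicative.ofAdd (al e)
      map_one' := by rw [Subgroup.coe_one, (S.al_zero 1 Q.one_mem).2 Z.one_mem]; rfl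
      map_mul' := fun a b => by rw [Subgroup.coe_mul, S.al_mul a a.2 b b.2]; rfl }
  have hk : f.ker = Z.subgroupOf Q := by
    ext e
    rw [MonoidHom.mem_ker, Subgroup.mem_subgroupOf, ← S.al_zero e e.2]
    rfl
  have hs : Function.Surjective f := by
    intro a
    obtain ⟨e, he, h⟩ := S.al_surj (Multiplicative.toAdd a)
    exact ⟨⟨e, he⟩, congrArg Multiplicative.ofAdd h⟩
  have h1 := Subgroup.card_eq_card_quotient_mul_card_subgroup f.ker
  rw [Nat.card_congr (QuotientGroup.quotientKerEquivOfSurjective f hs).toEquiv, hk,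
    Nat.card_congr (Subgroup.subgroupOfEquivOfLe S.ZQ).toEquiv] at h1
  rw [h1]
  congr 1
  rw [← hF, ← Nat.card_eq_fintype_card]
  exact Nat.card_congr Multiplicative.toAdd

variable [Finite L] [Fintype F] (hF : Fintype.card F = q ^ 2) (h2 : (2 : F) ≠ 0)
include hF

theorem frob2 (a : F) : (a ^ q) ^ q = a := by
  rw [← pow_mul, ← pow_two, ← hF, FiniteField.pow_card]

/-- `|Z| = q` is prime to `r` -/
theorem card_Z_pow {p : ℕ} [Fact p.Prime] [CharP F p] : ∀ z ∈ Z, z ^ p = 1 := by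
  intro z hz
  apply S.ze_inj _ (Z.pow_mem hz p)
  have h : ∀ n : ℕ, ze (z ^ n) = (n : F) * ze z := by
    intro n
    induction n with
    | zero => rw [pow_zero, S.ze_one, Nat.cast_zero, zero_mul]
    | succ n ih => rw [pow_succ, S.ze_mul _ (Z.pow_mem hz n) z hz, ih, Nat.cast_succ]; ring
  rw [h, CharP.cast_eq_zero F p, zero_mul]

theorem not_dvd_Z {p : ℕ} [Fact p.Prime] [CharP F p] {r : ℕ} (hr : r.Prime) (hrp : r ≠ p) : ¬ r ∣ Nat.card Z := by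
  intro h
  have : Fact r.Prime := ⟨hr⟩
  obtain ⟨z, hz⟩ := exists_prime_orderOf_dvd_card' r h
  have h1 : z ^ p = 1 := Subtype.ext (by
    rw [Subgroup.coe_pow, S.card_Z_pow hF z z.2]; rfl)
  have h3 := orderOf_dvd_of_pow_eq_one h1
  rw [hz] at h3
  exact hrp ((Nat.prime_dvd_prime_iff_eq hr Fact.out).1 h3)

theorem not_dvd_Q {p : ℕ} [Fact p.Prime] [CharP F p] {r : ℕ} (hr : r.Prime) (hrp : r ≠ p) : ¬ r ∣ Nat.card Q := by
  rw [S.card_Q hF]
  intro h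
  rcases (Nat.Prime.dvd_mul hr).1 h with h | h
  · rw [← hF] at h
    obtain ⟨n, _, hn⟩ := FiniteField.card F p
    rw [hn] at h
    exact hrp ((Nat.prime_dvd_prime_iff_eq hr Fact.out).1 (hr.dvd_of_dvd_pow h))
  · exact S.not_dvd_Z hF hr hrp h

/-- `x = tau t` fixes or moves characters -/
theorem fix {t : Fˣ} {n : ℕ} (h1 : t ^ ((q + 1) * n) = 1) (K : Subgroup L) :
    ∀ z ∈ Z, tau t ^ n * z * (tau t ^ n)⁻¹ * z⁻¹ ∈ K := by
  intro z hz
  rw [← map_pow]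
  have h3 : tau (t ^ n) * z * (tau (t ^ n))⁻¹ = z := by
    apply S.ze_ext (S.tau_Z _ hz) hz
    rw [S.tau_ze _ z hz, ← Units.val_pow_eq_pow_val, ← pow_mul, mul_comm n, h1, Units.val_one, one_mul]
  rw [h3, mul_inv_cancel]
  exact K.one_mem

theorem move {t : Fˣ} {i : ℕ} (h1 : t ^ ((q + 1) * i) ≠ 1) {K : Subgroup L} {z₀ : L} (hz₀ : z₀ ∈ Z) (hK : z₀ ∉ K) :
    ∃ z ∈ Z, tau t ^ i * z * (tau t ^ i)⁻¹ * z⁻¹ ∉ K := by
  set lam : F := ((t ^ ((q + 1) * i) : Fˣ) : F) with hlam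
  have hl1 : lam - 1 ≠ 0 := by
    rw [Ne, sub_eq_zero, hlam, Units.val_eq_one]
    exact h1
  have hlq : lam ^ q = lam := by
    rw [hlam, Units.val_pow_eq_pow_val, ← pow_mul]
    have e : (q + 1) * i * q = (q ^ 2) * i + q * i := by ring
    rw [e, pow_add, pow_mul (t : F) (q ^ 2), ← hF, FiniteField.pow_card, ← pow_add]
    congr 1
    ring
  obtain ⟨z, hz, hze⟩ := S.ze_surj (ze z₀ / (lam - 1)) (by
    rw [div_pow, S.ze_skew z₀ hz₀]
    have e : (lam - 1) ^ q = lam - 1 := by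
      obtain ⟨p, hp⟩ := CharP.exists F
      have hpr : Fact p.Prime := ⟨CharP.char_is_prime F p⟩
      obtain ⟨k, _, hk⟩ := FiniteField.card F p
      have h4 : q ∣ p ^ (k : ℕ) := by rw [← hk, hF]; exact dvd_pow_self q two_ne_zero
      obtain ⟨a, _, ha⟩ := (Nat.dvd_prime_pow hpr.out).1 h4
      rw [ha, sub_pow_char_pow, one_pow, ← ha, hlq]
    rw [e, neg_div])
  refine ⟨z, hz, ?_⟩
  rw [← map_pow]
  have h3 : tau (t ^ i) * z * (tau (t ^ i))⁻¹ * z⁻¹ = z₀ := by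
    apply S.ze_ext (Z.mul_mem (S.tau_Z _ hz) (Z.inv_mem hz)) hz₀
    rw [S.ze_mul _ (S.tau_Z _ hz) _ (Z.inv_mem hz), S.ze_inv hz, S.tau_ze _ z hz, ← Units.val_pow_eq_pow_val, ← pow_mul,
      mul_comm i, ← hlam, hze]
    field_simp
    ring
  rw [h3]
  exact hK

include h2 in
theorem nondeg {K : Subgroup L} {z₀ : L} (hz₀ : z₀ ∈ Z) (hK : z₀ ∉ K) :
    ∀ e ∈ Q, (∀ f ∈ Q, f * e * f⁻¹ * e⁻¹ ∈ K) → e ∈ Z := by
  intro e he h
  by_contra hcon
  have ha : al e ≠ 0 := fun h3 => hcon ((S.al_zero e he).1 h3)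
  have haq : al e ^ q ≠ 0 := pow_ne_zero _ ha
  obtain ⟨f, hf, haf⟩ := S.al_surj (ze z₀ / (2 * al e ^ q))
  obtain ⟨h4, h5⟩ := S.comm f hf e he
  have h6 : f * e * f⁻¹ * e⁻¹ = z₀ := by
    apply S.ze_ext h4 hz₀
    rw [h5, haf]
    have e1 : (ze z₀ / (2 * al e ^ q)) ^ q = - ze z₀ / (2 * al e) := by
      rw [div_pow, mul_pow, S.frob2 hF, S.ze_skew z₀ hz₀]
      have e2 : (2 : F) ^ q = 2 := by
        obtain ⟨p, hp⟩ := CharP.exists F
        have hpr : Fact p.Prime := ⟨CharP.char_is_prime F p⟩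
        obtain ⟨k, _, hk⟩ := FiniteField.card F p
        have h4 : q ∣ p ^ (k : ℕ) := by rw [← hk, hF]; exact dvd_pow_self q two_ne_zero
        obtain ⟨a, _, ha⟩ := (Nat.dvd_prime_pow hpr.out).1 h4
        rw [ha]
        have e3 : (2 : F) = 1 + 1 := by norm_num
        rw [e3, add_pow_char_pow, one_pow]
      rw [e2]
    rw [e1]
    field_simp
    ring
  exact hK (h6 ▸ h f hf)

theorem semi {t : Fˣ} {n m : ℕ} (ho : orderOf (tau t) = n * m) (h1 : t ^ ((q + 1) * n) = 1) :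
    ∀ e ∈ Q, e ∉ Z → ∀ i, 0 < i → i < m → e⁻¹ * (tau t ^ (n * i) * e * (tau t ^ (n * i))⁻¹) ∉ Z := by
  intro e he heZ i hi0 him h
  have ha : al e ≠ 0 := fun h3 => heZ ((S.al_zero e he).1 h3)
  rw [← map_pow] at h
  have hm := S.tau_Q (t ^ (n * i)) e he
  rw [← S.al_zero _ (Q.mul_mem (Q.inv_mem he) hm), S.al_mul _ (Q.inv_mem he) _ hm, S.al_inv he, neg_add_eq_zero] at h
  have h3 := S.tau_al (t ^ (n * i)) e he
  rw [← h] at h3
  have h4 : ((t ^ (n * i) : Fˣ) : F) ^ q = ((t ^ (n * i) : Fˣ) : F) ^ 2 := mul_right_cancel₀ ha h3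
  set s : Fˣ := t ^ (n * i) with hs
  have h5 : s ^ q = s ^ 2 := Units.ext (by rw [Units.val_pow_eq_pow_val, Units.val_pow_eq_pow_val]; exact h4)
  have h6 : s ^ (q + 1) = 1 := by
    rw [hs, ← pow_mul]
    have : n * i * (q + 1) = (q + 1) * n * i := by ring
    rw [this, pow_mul, h1, one_pow]
  have h7 : s ^ 3 = 1 := by
    rw [pow_succ, ← h5, ← pow_succ, h6]
  have h8 : tau t ^ (n * i) = 1 := by
    rw [← map_pow, ← hs, S.tau_ker]
    exact ⟨h7, h6⟩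
  have h9 := orderOf_dvd_of_pow_eq_one h8
  rw [ho] at h9
  have hn0 : 0 < n := by
    rcases Nat.eq_zero_or_pos n with h | h
    · exfalso
      have := orderOf_pos (tau t)
      rw [ho, h, zero_mul] at this
      exact lt_irrefl _ this
    · exact h
  have h10 := Nat.le_of_dvd hi0 (Nat.dvd_of_mul_dvd_mul_left hn0 h9)
  omega

include h2 in
/-- **The norm of a torus element**, `r ^ j ≤ q`. -/
theorem norm_tau {p : ℕ} [Fact p.Prime] [CharP F p] {r : ℕ} (hr : r.Prime) (hrp : r ≠ p) {W : Type u} [AddCommGroup W]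
    [Finite W] (hW : ∀ w : W, r • w = 0) (φ : L →* AddMonoid.End W) {z₀ : L} (hz₀ : z₀ ∈ Z) (hφ : φ z₀ ≠ 1) {t : Fˣ}
    {n j : ℕ} (ho : orderOf (tau t) = n * r ^ j) (h1 : t ^ ((q + 1) * n) = 1)
    (h3 : ∀ i, 0 < i → i < n → t ^ ((q + 1) * i) ≠ 1) (hle : r ^ j ≤ q) :
    ∃ w : W, ∑ i ∈ range (orderOf (tau t)), φ (tau t ^ i) w ≠ 0 := by
  refine norm_ne_C hr hW φ S.commZ (S.not_dvd_Z hF hr hrp) hz₀ hφ (fun z hz => S.tau_Z t hz) ?_
  intro K _ hK _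
  exact ⟨n, j, q, Q,
    { order := ho
      le := hle
      ndvd := S.not_dvd_Q hF hr hrp
      fix := S.fix hF h1 K
      move := fun i hi0 hin => S.move hF (h3 i hi0 hin) hz₀ hK
      leE := S.ZQ
      central := S.central
      comm := fun e he f hf => (S.comm e he f hf).1
      card := S.card_Q hF
      nondeg := S.nondeg hF h2 hz₀ hK
      norm := fun e he => by rw [← map_pow]; exact S.tau_Q _ e he
      semi := S.semi hF ho h1 }⟩

include h2 in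
/-- **The norm of a torus element**, the stabiliser of a character has order `2 * r ^ j`. -/
theorem norm_tau_two {p : ℕ} [Fact p.Prime] [CharP F p] {r : ℕ} (hr : r.Prime) (hr2 : r ≠ 2) (hrp : r ≠ p)
    {W : Type u} [AddCommGroup W] [Finite W] (hW : ∀ w : W, r • w = 0) (φ : L →* AddMonoid.End W) {z₀ : L} (hz₀ : z₀ ∈ Z)
    (hφ : φ z₀ ≠ 1) {t : Fˣ} {n j : ℕ} (ho : orderOf (tau t) = n * (2 * r ^ j)) (h1 : t ^ ((q + 1) * n) = 1)
    (h3 : ∀ i, 0 < i → i < n → t ^ ((q + 1) * i) ≠ 1) (hle : 2 * r ^ j + 1 ≤ q) :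
    ∃ w : W, ∑ i ∈ range (orderOf (tau t)), φ (tau t ^ i) w ≠ 0 := by
  refine norm_ne_T hr hr2 hW φ S.commZ (S.not_dvd_Z hF hr hrp) hz₀ hφ (fun z hz => S.tau_Z t hz) ?_
  intro K _ hK _
  exact ⟨n, j, q, Q,
    { order := ho
      le := hle
      ndvd := S.not_dvd_Q hF hr hrp
      fix := S.fix hF h1 K
      move := fun i hi0 hin => S.move hF (h3 i hi0 hin) hz₀ hK
      leE := S.ZQ
      central := S.central
      comm := fun e he f hf => (S.comm e he f hf).1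
      card := S.card_Q hF
      nondeg := S.nondeg hF h2 hz₀ hK
      norm := fun e he => by rw [← map_pow]; exact S.tau_Q _ e he
      semi := S.semi hF ho h1 }⟩

end BU3

end Cfsg.Agent.H377.CV
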