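import Cfsg.Agent.H377.CV.Rep
import Cfsg.Agent.H377.CV.WeilTwo

/-!
# TOOL C and TOOL B for S3442 (helper377)

* `norm_ne_of_char` : the reduction to the eigenspaces of an abelian normal `r'`-subgroup `Z` of `⟨x⟩ Z`;
* `ToolC`, `norm_ne_C` : `E / Z` with a nondegenerate form, `x ^ n` semiregular on `E / Z`;
* `norm_ne_B` : TOOL B.
-/

set_option autoImplicit false
set_option linter.unusedSectionVars false

namespace Cfsg.Agent.H377.CV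

open Module Finset

universe u v w

section stab

variable {L : Type v} [Group L] [Finite L] {k : Type u} [Field k] {V : Type w} [AddCommGroup V] [Module k V]
  (ρ : L →* End k V)

/-- the stabiliser of a subspace -/
def stab (U : Submodule k V) : Subgroup L where
  carrier := {g | ∀ u ∈ U, ρ g u ∈ U}
  mul_mem' := by
    intro a b ha hb u hu
    rw [rmul]
    exact ha _ (hb u hu)
  one_mem' := by
    intro u hu
    rw [rone]
    exact hu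
  inv_mem' := by
    intro a ha u hu
    have h1 : a⁻¹ = a ^ (orderOf a - 1) := by
      rw [inv_eq_iff_mul_eq_one, ← pow_succ', Nat.sub_add_cancel (orderOf_pos a), pow_orderOf_eq_one]
    have h2 : ∀ i : ℕ, ρ (a ^ i) u ∈ U := by
      intro i
      induction i with
      | zero => rw [pow_zero, rone]; exact hu
      | succ i ih => rw [pow_succ', rmul]; exact ha _ ih
    rw [h1]
    exact h2 _

theorem mem_stab {U : Submodule k V} {g : L} : g ∈ stab ρ U ↔ ∀ u ∈ U, ρ g u ∈ U := Iff.rfl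

/-- the restriction to the subspace -/
def res (U : Submodule k V) : stab ρ U →* End k U where
  toFun g := (ρ g).restrict g.2
  map_one' := by
    ext u
    change ρ 1 (u : V) = u
    rw [rone]
  map_mul' a b := by
    ext u
    change ρ (a * b) (u : V) = ρ a (ρ b u)
    rw [rmul]

theorem res_apply {U : Submodule k V} (g : stab ρ U) (u : U) : ((res ρ U g u : U) : V) = ρ g u := rfl

/-- the restriction, as units -/
def resU (U : Submodule k V) : stab ρ U →* (End k U)ˣ := (res ρ U).toHomUnits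

theorem resU_apply {U : Submodule k V} (g : stab ρ U) (u : U) : ((resU ρ U g : End k U) u : V) = ρ g u := rfl

theorem resU_val {U : Submodule k V} (g : stab ρ U) : (resU ρ U g : End k U) = res ρ U g := rfl

theorem mem_stab_of_comm {Z : Subgroup L} {ψ : Z →* kˣ} {e : L} (he : ∀ z ∈ Z, e * z = z * e) : e ∈ stab ρ (eig ρ Z ψ) := by
  intro u hu z
  rw [← rmul, ← he z z.2, rmul, hu z, map_smul]

theorem mem_stab_of_fix {Z : Subgroup L} {ψ : Z →* kˣ} {c : L} (hc : ∀ z ∈ Z, c⁻¹ * z * c ∈ Z)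
    (hf : ∀ z z' : Z, (z' : L) = c⁻¹ * z * c → ψ z' = ψ z) : c ∈ stab ρ (eig ρ Z ψ) := by
  intro u hu z
  have h1 := hu ⟨_, hc z z.2⟩
  rw [hf z ⟨_, hc z z.2⟩ rfl] at h1
  rw [← rmul]
  have h2 : (z : L) * c = c * (c⁻¹ * z * c) := by group
  rw [h2, rmul]
  change ρ c (ρ (c⁻¹ * z * c) u) = _
  change ρ (c⁻¹ * z * c) u = _ at h1
  rw [h1, map_smul]

theorem resU_Z {Z : Subgroup L} {ψ : Z →* kˣ} {g : stab ρ (eig ρ Z ψ)} (z : Z) (hg : (g : L) = z) :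
    (resU ρ (eig ρ Z ψ) g : End k (eig ρ Z ψ)) = (ψ z : k) • 1 := by
  ext u
  rw [resU_apply, hg]
  exact u.2 z

end stab

section main

variable {L : Type v} [Group L] [Finite L] {k : Type u} [Field k] {V : Type w} [AddCommGroup V] [Module k V]
  (ρ : L →* End k V)

/-- **The norm of `c` on an eigenspace**, three forms. -/
theorem norm_CO3 [FiniteDimensional k V] {r j m : ℕ} [Fact r.Prime] [CharP k r]
    {Z E : Subgroup L} (hrE : ¬ r ∣ Nat.card E) {ψ : Z →* kˣ} (hU : eig ρ Z ψ ≠ ⊥) (hZE : Z ≤ E)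
    (hcen : ∀ e ∈ E, ∀ z ∈ Z, e * z = z * e) (hcomm : ∀ e ∈ E, ∀ f ∈ E, e * f * e⁻¹ * f⁻¹ ∈ Z)
    (hnd : ∀ e ∈ E, (∀ f ∈ E, ∀ z : Z, (z : L) = f * e * f⁻¹ * e⁻¹ → ψ z = 1) → e ∈ Z)
    {c : L} (hcE : ∀ e ∈ E, c * e * c⁻¹ ∈ E) (hcZ : ∀ z ∈ Z, c⁻¹ * z * c ∈ Z)
    (hf : ∀ z z' : Z, (z' : L) = c⁻¹ * z * c → ψ z' = ψ z)
    (hcond : (m = r ^ j ∧ ∃ N : ℕ, m ≤ N ∧ Nat.card E = N ^ 2 * Nat.card Z ∧
        ∀ e ∈ E, e ∉ Z → ∀ i, 0 < i → i < m → e⁻¹ * (c ^ i * e * (c ^ i)⁻¹) ∉ Z) ∨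
      (m = r ^ j ∧ c ^ m = 1 ∧ (m - 1) * ∑ i ∈ range m, Nat.card {e : E // (e : L)⁻¹ * (c ^ i * e * (c ^ i)⁻¹) ∈ Z} <
        m * Nat.card E) ∨
      (m = 2 * r ^ j ∧ r ≠ 2 ∧ c ^ m = 1 ∧ ∃ N : ℕ, m + 1 ≤ N ∧ Nat.card E = N ^ 2 * Nat.card Z ∧
        ∀ e ∈ E, e ∉ Z → ∀ i, 0 < i → i < m → e⁻¹ * (c ^ i * e * (c ^ i)⁻¹) ∉ Z)) :
    ∃ v ∈ eig ρ Z ψ, ∑ l ∈ range m, ρ (c ^ l) v ≠ 0 := by
  classical
  set U := eig ρ Z ψ with hUdef
  have hnt : Nontrivial U := (Submodule.nontrivial_iff_ne_bot).2 hU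
  have hE : ∀ e ∈ E, e ∈ stab ρ U := fun e he => mem_stab_of_comm ρ (hcen e he)
  have hc : c ∈ stab ρ U := mem_stab_of_fix ρ hcZ hf
  -- the quotient
  let Z' : Subgroup E := Z.subgroupOf E
  have hZ' : ∀ e : E, e ∈ Z' ↔ (e : L) ∈ Z := fun e => Subgroup.mem_subgroupOf
  have hN : Z'.Normal := by
    refine ⟨fun z hz e => ?_⟩
    rw [hZ'] at hz ⊢
    have h1 : ((e * z * e⁻¹ : E) : L) = z := by
      rw [Subgroup.coe_mul, Subgroup.coe_mul, hcen e e.2 z hz, Subgroup.coe_inv, mul_inv_cancel_right]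
    rw [h1]
    exact hz
  let A := E ⧸ Z'
  let _ : Fintype A := Fintype.ofFinite A
  let t : A → E := Quotient.out
  have ht : ∀ s : A, (QuotientGroup.mk (t s) : A) = s := fun s => Quotient.out_eq s
  have hcardA : Fintype.card A * Nat.card Z = Nat.card E := by
    have h1 : Nat.card E = Nat.card A * Nat.card Z' := Subgroup.card_eq_card_quotient_mul_card_subgroup Z'
    have h2 : Nat.card Z' = Nat.card Z := Nat.card_congr (Subgroup.subgroupOfEquivOfLe hZE).toEquiv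
    rw [h2] at h1
    rw [← Nat.card_eq_fintype_card]
    exact h1.symm
  have hrA : ¬ r ∣ Fintype.card A := by
    intro h
    apply hrE
    rw [← hcardA]
    exact h.mul_right _
  -- the operators
  let g : E → stab ρ U := fun e => ⟨e, hE e e.2⟩
  let T : A → (End k U)ˣ := fun s => resU ρ U (g (t s))
  -- elements of `E` in the same coset
  have hsc : ∀ e f : E, (QuotientGroup.mk e : A) = QuotientGroup.mk f →
      ∃ d : k, (resU ρ U (g e) : End k U) = d • (resU ρ U (g f) : End k U) := by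
    intro e f hef
    have h1 : f⁻¹ * e ∈ Z' := QuotientGroup.eq.1 hef.symm
    rw [hZ'] at h1
    refine ⟨(ψ ⟨_, h1⟩ : k), ?_⟩
    ext u
    rw [LinearMap.smul_apply, Submodule.coe_smul, resU_apply, resU_apply]
    have h2 : ((g e : stab ρ U) : L) = f * ((f⁻¹ * e : E) : L) := by
      change (e : L) = _
      rw [Subgroup.coe_mul, Subgroup.coe_inv, mul_inv_cancel_left]
    rw [h2, rmul]
    have h3 := u.2 ⟨_, h1⟩
    change ρ (f : L) (ρ ((f⁻¹ * e : E) : L) u) = _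
    change ρ ((f⁻¹ * e : E) : L) u = _ at h3
    rw [h3, map_smul]
  let β : A → A → kˣ := fun s s' => ψ ⟨_, hcomm (t s) (t s).2 (t s') (t s').2⟩
  have H : Weil T β := by
    refine ⟨?_, ?_, ?_⟩
    · intro s s'
      obtain ⟨d, hd⟩ := hsc (t (s * s')) (t s * t s') (by
        rw [QuotientGroup.mk_mul, ht, ht, ht])
      refine ⟨d, ?_⟩
      rw [← Units.val_mul, ← map_mul]
      exact hd
    · intro s s'
      ext u
      rw [LinearMap.smul_apply, Submodule.coe_smul]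
      change ρ (t s : L) (ρ (t s' : L) u) = (β s s' : k) • ρ (t s' : L) (ρ (t s : L) u)
      rw [← rmul, ← rmul]
      have h1 : (t s : L) * t s' = (t s * t s' * (t s : L)⁻¹ * (t s' : L)⁻¹) * (t s' * t s) := by group
      rw [h1, rmul]
      exact (hE _ (E.mul_mem (t s').2 (t s).2) u u.2 : _ ∈ eig ρ Z ψ) ⟨_, hcomm (t s) (t s).2 (t s') (t s').2⟩
    · intro s hs
      have h1 : (t s : L) ∈ Z := by
        apply hnd (t s) (t s).2
        intro f hf' z hz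
        have h2 := hs (QuotientGroup.mk ⟨f, hf'⟩)
        have h3 : (t (QuotientGroup.mk ⟨f, hf'⟩))⁻¹ * ⟨f, hf'⟩ ∈ Z' := QuotientGroup.eq.1 (ht _)
        rw [hZ'] at h3
        set a := t (QuotientGroup.mk ⟨f, hf'⟩) with ha
        change ψ ⟨_, hcomm a a.2 (t s) (t s).2⟩ = 1 at h2
        rw [← h2]
        congr 1
        apply Subtype.ext
        rw [hz]
        change f * t s * f⁻¹ * (t s : L)⁻¹ = a * t s * (a : L)⁻¹ * (t s : L)⁻¹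
        have h4 : f = a * ((a⁻¹ * ⟨f, hf'⟩ : E) : L) := by
          rw [Subgroup.coe_mul, Subgroup.coe_inv, mul_inv_cancel_left]
        have h5 := hcen (t s) (t s).2 _ h3
        rw [h4]
        calc (a : L) * ((a⁻¹ * ⟨f, hf'⟩ : E) : L) * t s * (a * ((a⁻¹ * ⟨f, hf'⟩ : E) : L))⁻¹ * (t s : L)⁻¹
            = a * (((a⁻¹ * ⟨f, hf'⟩ : E) : L) * t s) * ((a⁻¹ * ⟨f, hf'⟩ : E) : L)⁻¹ * (a : L)⁻¹ * (t s : L)⁻¹ := by group
          _ = a * (t s * ((a⁻¹ * ⟨f, hf'⟩ : E) : L)) * ((a⁻¹ * ⟨f, hf'⟩ : E) : L)⁻¹ * (a : L)⁻¹ * (t s : L)⁻¹ := by rw [h5]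
          _ = _ := by group
      rw [← ht s]
      exact (QuotientGroup.eq_one_iff _).2 ((hZ' _).2 h1)
  -- the permutation
  let cE : E →* E :=
    { toFun := fun e => ⟨c * e * c⁻¹, hcE e e.2⟩
      map_one' := Subtype.ext (by simp)
      map_mul' := fun a b => Subtype.ext (by
        change c * ((a : L) * b) * c⁻¹ = c * a * c⁻¹ * (c * b * c⁻¹)
        group) }
  have hcZ2 : ∀ z ∈ Z, c * z * c⁻¹ ∈ Z := by
    intro z hz
    let f : Z → Z := fun b => ⟨c⁻¹ * b * c, hcZ b b.2⟩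
    have hf' : Function.Injective f := by
      intro x y hxy
      have h1 := congrArg Subtype.val hxy
      exact Subtype.ext (mul_left_cancel (mul_right_cancel h1))
    obtain ⟨b, hb⟩ := (Finite.injective_iff_surjective.1 hf') ⟨z, hz⟩
    have h1 : c⁻¹ * (b : L) * c = z := congrArg Subtype.val hb
    rw [← h1]
    have : c * (c⁻¹ * (b : L) * c) * c⁻¹ = b := by group
    rw [this]
    exact b.2
  let γ₀ : A →* A := QuotientGroup.map Z' Z' cE (by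
    intro z hz
    rw [Subgroup.mem_comap, hZ']
    exact hcZ2 z ((hZ' z).1 hz))
  have hγ₀ : Function.Injective γ₀ := by
    rw [injective_iff_map_eq_one]
    intro s
    induction s using QuotientGroup.induction_on with
    | H e =>
      intro h
      have h1 : (QuotientGroup.mk (cE e) : A) = 1 := h
      rw [QuotientGroup.eq_one_iff, hZ'] at h1
      have h1' : c * (e : L) * c⁻¹ ∈ Z := h1
      have h2 := hcZ _ h1'
      have h3 : c⁻¹ * (c * (e : L) * c⁻¹) * c = e := by group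
      rw [h3] at h2
      exact (QuotientGroup.eq_one_iff _).2 ((hZ' e).2 h2)
  let γ : Equiv.Perm A := Equiv.ofBijective γ₀ (Finite.injective_iff_bijective.1 hγ₀)
  have hγmk : ∀ e : E, γ (QuotientGroup.mk e) = QuotientGroup.mk (cE e) := fun e => rfl
  have hγpow : ∀ (i : ℕ) (e : E) (he : c ^ i * (e : L) * (c ^ i)⁻¹ ∈ E),
      (γ ^ i) (QuotientGroup.mk e) = QuotientGroup.mk (⟨_, he⟩ : E) := by
    intro i
    induction i with
    | zero => intro e he; simp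
    | succ i ih =>
      intro e he
      have he' : c ^ i * (cE e : L) * (c ^ i)⁻¹ ∈ E := by
        convert he using 1
        change c ^ i * (c * e * c⁻¹) * (c ^ i)⁻¹ = _
        rw [pow_succ]
        group
      rw [pow_succ, Equiv.Perm.mul_apply, hγmk, ih _ he']
      congr 1
      apply Subtype.ext
      change c ^ i * (c * e * c⁻¹) * (c ^ i)⁻¹ = c ^ (i + 1) * e * (c ^ (i + 1))⁻¹
      rw [pow_succ]
      group
  have hcpow : ∀ (i : ℕ), ∀ e ∈ E, c ^ i * e * (c ^ i)⁻¹ ∈ E := by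
    intro i
    induction i with
    | zero => intro e he; simpa using he
    | succ i ih =>
      intro e he
      convert ih _ (hcE e he) using 1
      rw [pow_succ]
      group
  let C : (End k U)ˣ := resU ρ U ⟨c, hc⟩
  have hγ : ∀ s, ∃ d : k, (C : End k U) * T s = d • ((T (γ s) : End k U) * C) := by
    intro s
    obtain ⟨d, hd⟩ := hsc (cE (t s)) (t (γ s)) (by rw [ht, ← hγmk, ht])
    refine ⟨d, ?_⟩
    rw [← smul_mul_assoc]
    change _ = (d • (resU ρ U (g (t (γ s))) : End k U)) * C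
    rw [← hd, ← Units.val_mul, ← Units.val_mul, ← map_mul, ← map_mul]
    congr 2
    apply Subtype.ext
    change c * (t s : L) = c * t s * c⁻¹ * c
    group
  have hγm : c ^ m = 1 → γ ^ m = 1 := by
    intro hcm
    ext s
    obtain ⟨e, rfl⟩ := QuotientGroup.mk_surjective s
    rw [hγpow m e (hcpow m _ e.2), Equiv.Perm.one_apply]
    congr 1
    apply Subtype.ext
    change c ^ m * (e : L) * (c ^ m)⁻¹ = e
    rw [hcm, one_mul, inv_one, mul_one]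
  have hsemi' : (∀ e ∈ E, e ∉ Z → ∀ i, 0 < i → i < m → e⁻¹ * (c ^ i * e * (c ^ i)⁻¹) ∉ Z) →
      ∀ s : A, s ≠ 1 → ∀ i, 0 < i → i < m → (γ ^ i) s ≠ s := by
    intro hsemi s hs i hi0 him h
    have h1 : (γ ^ i) (QuotientGroup.mk (t s)) = QuotientGroup.mk (t s) := by rw [ht, h]
    rw [hγpow i (t s) (hcpow i _ (t s).2)] at h1
    have h2 := QuotientGroup.eq.1 h1.symm
    rw [hZ'] at h2
    refine hsemi (t s) (t s).2 (fun h3 => hs ?_) i hi0 him h2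
    rw [← ht s]
    exact (QuotientGroup.eq_one_iff _).2 ((hZ' _).2 h3)
  have hrN' : ∀ N : ℕ, Fintype.card A = N ^ 2 → ¬ r ∣ N := by
    intro N hcA h
    apply hrA
    rw [hcA]
    exact h.trans (dvd_pow_self N two_ne_zero)
  have key : ∑ i ∈ range m, (C : End k U) ^ i ≠ 0 := by
    rcases hcond with ⟨hm, N, hmN, hcard, hsemi⟩ | ⟨hm, hcm, hlt⟩ | ⟨hm, hr2, hcm, N, hmN, hcard, hsemi⟩
    · have hcA : Fintype.card A = N ^ 2 := Nat.eq_of_mul_eq_mul_right Nat.card_pos (hcardA.trans hcard)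
      exact H.norm_ne_zero hγ hm hcA (hrN' N hcA) hmN (hsemi' hsemi)
    rotate_left
    · have hcA : Fintype.card A = N ^ 2 := Nat.eq_of_mul_eq_mul_right Nat.card_pos (hcardA.trans hcard)
      have hCm : (C : End k U) ^ (2 * r ^ j) = 1 := by
        rw [← hm, ← Units.val_pow_eq_pow_val, ← map_pow]
        have h1 : (⟨c, hc⟩ : stab ρ U) ^ m = 1 := Subtype.ext (by rw [Subgroup.coe_pow, hcm]; rfl)
        rw [h1, map_one, Units.val_one]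
      have h3 := hsemi' hsemi
      rw [hm] at h3 ⊢
      exact H.norm_ne_zero_two hγ hr2 rfl hcA (hrN' N hcA) (by rw [← hm]; exact hmN) hCm h3
    · have hγm := hγm hcm
      refine H.norm_ne_zero_burnside hγ hm hrA hγm ?_
      -- compare the fixed points
      have hcmp : ∀ i : ℕ, Nat.card {s : A // (γ ^ i) s = s} * Nat.card Z ≤
          Nat.card {e : E // (e : L)⁻¹ * (c ^ i * e * (c ^ i)⁻¹) ∈ Z} := by
        intro i
        rw [← Nat.card_prod]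
        let F : {s : A // (γ ^ i) s = s} × Z → {e : E // (e : L)⁻¹ * (c ^ i * e * (c ^ i)⁻¹) ∈ Z} := fun p =>
          ⟨t p.1 * ⟨p.2, hZE p.2.2⟩, by
            set e : E := t p.1 * ⟨p.2, hZE p.2.2⟩ with he
            have h1 : (QuotientGroup.mk e : A) = p.1 := by
              rw [he, QuotientGroup.mk_mul_of_mem _ ((hZ' _).2 p.2.2), ht]
            have h2 := hγpow i e (hcpow i _ e.2)
            rw [h1, p.1.2, ← h1] at h2
            exact (hZ' _).1 (QuotientGroup.eq.1 h2)⟩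
        refine Nat.card_le_card_of_injective F ?_
        rintro ⟨⟨s, hs⟩, z⟩ ⟨⟨s', hs'⟩, z'⟩ h
        have h1 : t s * ⟨z, hZE z.2⟩ = t s' * ⟨z', hZE z'.2⟩ := congrArg Subtype.val h
        have h2 : s = s' := by
          have h3 := congrArg (fun e : E => (QuotientGroup.mk e : A)) h1
          change (QuotientGroup.mk (t s * ⟨z, hZE z.2⟩) : A) = QuotientGroup.mk (t s' * ⟨z', hZE z'.2⟩) at h3
          rwa [QuotientGroup.mk_mul_of_mem _ ((hZ' _).2 z.2), QuotientGroup.mk_mul_of_mem _ ((hZ' _).2 z'.2), ht, ht] at h3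
        subst h2
        have h3 := congrArg Subtype.val (mul_left_cancel h1)
        have h4 : z = z' := Subtype.ext h3
        rw [h4]
      have hZ0 : 0 < Nat.card Z := Nat.card_pos
      refine Nat.lt_of_mul_lt_mul_right (a := Nat.card Z) ?_
      calc ((m - 1) * ∑ i ∈ range m, Nat.card {s : A // (γ ^ i) s = s}) * Nat.card Z
          = (m - 1) * ∑ i ∈ range m, Nat.card {s : A // (γ ^ i) s = s} * Nat.card Z := by
            rw [mul_assoc, Finset.sum_mul]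
        _ ≤ (m - 1) * ∑ i ∈ range m, Nat.card {e : E // (e : L)⁻¹ * (c ^ i * e * (c ^ i)⁻¹) ∈ Z} :=
            Nat.mul_le_mul_left _ (Finset.sum_le_sum fun i _ => hcmp i)
        _ < m * Nat.card E := hlt
        _ = m * Fintype.card A * Nat.card Z := by rw [mul_assoc, hcardA]
  by_contra hcon
  push Not at hcon
  apply key
  ext u
  have h1 : ∀ l : ℕ, (((C : End k U) ^ l) u : V) = ρ (c ^ l) u := by
    intro l
    rw [← Units.val_pow_eq_pow_val, ← map_pow]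
    rfl
  rw [LinearMap.sum_apply]
  have h2 : ((∑ l ∈ range m, ((C : End k U) ^ l) u : U) : V) = ∑ l ∈ range m, ρ (c ^ l) u := by
    rw [AddSubmonoidClass.coe_finsetSum]
    exact Finset.sum_congr rfl fun l _ => h1 l
  rw [h2, hcon u u.2]
  rfl

/-- **The norm of `c` on an eigenspace**, both forms. -/
theorem norm_CO [FiniteDimensional k V] {r j m : ℕ} [Fact r.Prime] [CharP k r] (hm : m = r ^ j)
    {Z E : Subgroup L} (hrE : ¬ r ∣ Nat.card E) {ψ : Z →* kˣ} (hU : eig ρ Z ψ ≠ ⊥) (hZE : Z ≤ E)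
    (hcen : ∀ e ∈ E, ∀ z ∈ Z, e * z = z * e) (hcomm : ∀ e ∈ E, ∀ f ∈ E, e * f * e⁻¹ * f⁻¹ ∈ Z)
    (hnd : ∀ e ∈ E, (∀ f ∈ E, ∀ z : Z, (z : L) = f * e * f⁻¹ * e⁻¹ → ψ z = 1) → e ∈ Z)
    {c : L} (hcE : ∀ e ∈ E, c * e * c⁻¹ ∈ E) (hcZ : ∀ z ∈ Z, c⁻¹ * z * c ∈ Z)
    (hf : ∀ z z' : Z, (z' : L) = c⁻¹ * z * c → ψ z' = ψ z)
    (hcond : (∃ N : ℕ, m ≤ N ∧ Nat.card E = N ^ 2 * Nat.card Z ∧
        ∀ e ∈ E, e ∉ Z → ∀ i, 0 < i → i < m → e⁻¹ * (c ^ i * e * (c ^ i)⁻¹) ∉ Z) ∨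
      (c ^ m = 1 ∧ (m - 1) * ∑ i ∈ range m, Nat.card {e : E // (e : L)⁻¹ * (c ^ i * e * (c ^ i)⁻¹) ∈ Z} <
        m * Nat.card E)) :
    ∃ v ∈ eig ρ Z ψ, ∑ l ∈ range m, ρ (c ^ l) v ≠ 0 := by
  refine norm_CO3 ρ (j := j) hrE hU hZE hcen hcomm hnd hcE hcZ hf ?_
  rcases hcond with h | h
  · exact Or.inl ⟨hm, h⟩
  · exact Or.inr (Or.inl ⟨hm, h⟩)

/-- **The norm of `c` on an eigenspace.** -/
theorem norm_C [FiniteDimensional k V] {r j m N : ℕ} [Fact r.Prime] [CharP k r] (hm : m = r ^ j) (hmN : m ≤ N)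
    {Z E : Subgroup L} (hrE : ¬ r ∣ Nat.card E) {ψ : Z →* kˣ} (hU : eig ρ Z ψ ≠ ⊥) (hZE : Z ≤ E)
    (hcen : ∀ e ∈ E, ∀ z ∈ Z, e * z = z * e) (hcomm : ∀ e ∈ E, ∀ f ∈ E, e * f * e⁻¹ * f⁻¹ ∈ Z)
    (hcard : Nat.card E = N ^ 2 * Nat.card Z)
    (hnd : ∀ e ∈ E, (∀ f ∈ E, ∀ z : Z, (z : L) = f * e * f⁻¹ * e⁻¹ → ψ z = 1) → e ∈ Z)
    {c : L} (hcE : ∀ e ∈ E, c * e * c⁻¹ ∈ E) (hcZ : ∀ z ∈ Z, c⁻¹ * z * c ∈ Z)
    (hf : ∀ z z' : Z, (z' : L) = c⁻¹ * z * c → ψ z' = ψ z)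
    (hsemi : ∀ e ∈ E, e ∉ Z → ∀ i, 0 < i → i < m → e⁻¹ * (c ^ i * e * (c ^ i)⁻¹) ∉ Z) :
    ∃ v ∈ eig ρ Z ψ, ∑ l ∈ range m, ρ (c ^ l) v ≠ 0 :=
  norm_CO ρ hm hrE hU hZE hcen hcomm hnd hcE hcZ hf (Or.inl ⟨N, hmN, hcard, hsemi⟩)

/-- **The norm of `c` on an eigenspace, orbit (Burnside) form.** -/
theorem norm_O [FiniteDimensional k V] {r j m : ℕ} [Fact r.Prime] [CharP k r] (hm : m = r ^ j)
    {Z E : Subgroup L} (hrE : ¬ r ∣ Nat.card E) {ψ : Z →* kˣ} (hU : eig ρ Z ψ ≠ ⊥) (hZE : Z ≤ E)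
    (hcen : ∀ e ∈ E, ∀ z ∈ Z, e * z = z * e) (hcomm : ∀ e ∈ E, ∀ f ∈ E, e * f * e⁻¹ * f⁻¹ ∈ Z)
    (hnd : ∀ e ∈ E, (∀ f ∈ E, ∀ z : Z, (z : L) = f * e * f⁻¹ * e⁻¹ → ψ z = 1) → e ∈ Z)
    {c : L} (hcE : ∀ e ∈ E, c * e * c⁻¹ ∈ E) (hcZ : ∀ z ∈ Z, c⁻¹ * z * c ∈ Z)
    (hf : ∀ z z' : Z, (z' : L) = c⁻¹ * z * c → ψ z' = ψ z) (hcm : c ^ m = 1)
    (hlt : (m - 1) * ∑ i ∈ range m, Nat.card {e : E // (e : L)⁻¹ * (c ^ i * e * (c ^ i)⁻¹) ∈ Z} < m * Nat.card E) :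
    ∃ v ∈ eig ρ Z ψ, ∑ l ∈ range m, ρ (c ^ l) v ≠ 0 :=
  norm_CO ρ hm hrE hU hZE hcen hcomm hnd hcE hcZ hf (Or.inr ⟨hcm, hlt⟩)

end main

section fin

variable {L : Type v} [Group L] [Finite L] {W : Type w} [AddCommGroup W] [Finite W]

/-- **The reduction to the eigenspaces of `Z`.** -/
theorem norm_ne_of_char {k : Type u} [Field k] [IsAlgClosed k] {r : ℕ} (hr : r.Prime) [CharP k r]
    (hW : ∀ w : W, r • w = 0) (φ : L →* AddMonoid.End W) {Z : Subgroup L} (hZ : ∀ a ∈ Z, ∀ b ∈ Z, a * b = b * a)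
    (hrZ : ¬ r ∣ Nat.card Z) (z₀ : Z) (hφ : φ z₀ ≠ 1) {x : L} (hx : ∀ z ∈ Z, x⁻¹ * z * x ∈ Z)
    (H : ∀ ψ : Z →* kˣ, ψ z₀ ≠ 1 → eig (rho k φ) Z ψ ≠ ⊥ → ∃ n m : ℕ, orderOf x = n * m ∧
      (∀ i, 0 < i → i < n → ∃ z : Z, ∃ z' : Z, (z' : L) = (x ^ i)⁻¹ * z * x ^ i ∧ ψ z' ≠ ψ z) ∧
      (∀ z z' : Z, (z' : L) = (x ^ n)⁻¹ * z * x ^ n → ψ z' = ψ z) ∧
      ∃ v ∈ eig (rho k φ) Z ψ, ∑ l ∈ range m, rho k φ ((x ^ n) ^ l) v ≠ 0) :
    ∃ w : W, ∑ i ∈ range (orderOf x), φ (x ^ i) w ≠ 0 := by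
  have : Fact r.Prime := ⟨hr⟩
  by_contra hcon
  push Not at hcon
  have hZk : (Nat.card Z : k) ≠ 0 := by
    rw [Ne, CharP.cast_eq_zero_iff k r]
    exact hrZ
  obtain ⟨ψ, h1, h2⟩ := exists_eig_ne (rho k φ) Z hZ z₀ (Nat.card Z) hZk (by
    rw [← Subgroup.coe_pow, pow_card_eq_one', Subgroup.coe_one]) (rho_ne_one hW φ hφ)
  obtain ⟨n, m, hnm, hne, hfix, v, hv, hv0⟩ := H ψ h1 h2
  apply hv0
  have hn0 : 0 < n := by
    rcases Nat.eq_zero_or_pos n with h | h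
    · exfalso
      have := orderOf_pos x
      rw [hnm, h, zero_mul] at this
      exact lt_irrefl _ this
    · exact h
  refine norm_eig (rho k φ) hZk hx hn0 hne hfix ?_ v hv
  -- the norm of `x` and of `x⁻¹`
  have h3 := rho_norm_eq_zero (k := k) φ hcon
  rw [← hnm]
  have h4 : ∑ i ∈ range (orderOf x), rho k φ (x ^ i) = rho k φ (x ^ (orderOf x - 1)) * ∑ i ∈ range (orderOf x), rho k φ (x⁻¹ ^ i) := by
    rw [Finset.mul_sum, ← Finset.sum_range_reflect]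
    refine Finset.sum_congr rfl fun i hi => ?_
    rw [← map_mul]
    congr 1
    have h5 := Finset.mem_range.1 hi
    rw [inv_pow, eq_mul_inv_iff_mul_eq, ← pow_add]
    congr 1
    omega
  rw [h4, h3, mul_zero]

/-- the fields are there -/
theorem exists_field (r : ℕ) (hr : r.Prime) : ∃ (k : Type) (_ : Field k) (_ : IsAlgClosed k), CharP k r := by
  have : Fact r.Prime := ⟨hr⟩
  exact ⟨AlgebraicClosure (ZMod r), inferInstance, inferInstance, inferInstance⟩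

/-- the kernel of a character as a subgroup of `L` -/
theorem ker_char {k : Type u} [Field k] {Z : Subgroup L} (ψ : Z →* kˣ) :
    (∀ z : Z, (z : L) ∈ ψ.ker.map Z.subtype ↔ ψ z = 1) ∧
    ∃ g ∈ Z, ∀ z ∈ Z, ∃ i : ℕ, z * (g ^ i)⁻¹ ∈ ψ.ker.map Z.subtype := by
  have h1 : ∀ z : Z, (z : L) ∈ ψ.ker.map Z.subtype ↔ ψ z = 1 := by
    intro z
    rw [Subgroup.mem_map]
    constructor
    · rintro ⟨z', hz', h⟩
      rw [← MonoidHom.mem_ker, ← Subtype.ext h]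
      exact hz'
    · intro h
      exact ⟨z, h, rfl⟩
  refine ⟨h1, ?_⟩
  have hf : Finite ψ.range := Finite.of_surjective _ ψ.rangeRestrict_surjective
  obtain ⟨⟨_, g, rfl⟩, hg⟩ := IsCyclic.exists_generator (α := ψ.range)
  refine ⟨g, g.2, fun z hz => ?_⟩
  obtain ⟨i, hi⟩ := mem_powers_iff_mem_zpowers.2 (hg ⟨ψ ⟨z, hz⟩, ⟨_, rfl⟩⟩)
  refine ⟨i, ?_⟩
  have h2 : ψ g ^ i = ψ ⟨z, hz⟩ := congrArg Subtype.val hi
  rw [show z * ((g : L) ^ i)⁻¹ = ((⟨z, hz⟩ * (g ^ i)⁻¹ : Z) : L) from rfl, h1, map_mul, map_inv, map_pow, h2,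
    mul_inv_cancel]

/-- The data for TOOL C: `K` is the kernel of the character of `Z`, `n` the index of the stabiliser. -/
structure CData (x : L) (Z K : Subgroup L) (r : ℕ) (n j N : ℕ) (E : Subgroup L) : Prop where
  order : orderOf x = n * r ^ j
  le : r ^ j ≤ N
  ndvd : ¬ r ∣ Nat.card E
  fix : ∀ z ∈ Z, x ^ n * z * (x ^ n)⁻¹ * z⁻¹ ∈ K
  move : ∀ i, 0 < i → i < n → ∃ z ∈ Z, x ^ i * z * (x ^ i)⁻¹ * z⁻¹ ∉ K
  leE : Z ≤ E
  central : ∀ e ∈ E, ∀ z ∈ Z, e * z = z * e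
  comm : ∀ e ∈ E, ∀ f ∈ E, e * f * e⁻¹ * f⁻¹ ∈ Z
  card : Nat.card E = N ^ 2 * Nat.card Z
  nondeg : ∀ e ∈ E, (∀ f ∈ E, f * e * f⁻¹ * e⁻¹ ∈ K) → e ∈ Z
  norm : ∀ e ∈ E, x ^ n * e * (x ^ n)⁻¹ ∈ E
  semi : ∀ e ∈ E, e ∉ Z → ∀ i, 0 < i → i < r ^ j → e⁻¹ * (x ^ (n * i) * e * (x ^ (n * i))⁻¹) ∉ Z

/-- the trivial case of TOOL C: the stabiliser of the character is trivial -/
theorem CData.of_regular {x : L} {Z K : Subgroup L} {r : ℕ} (hZ : ∀ a ∈ Z, ∀ b ∈ Z, a * b = b * a)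
    (hrZ : ¬ r ∣ Nat.card Z) (move : ∀ i, 0 < i → i < orderOf x → ∃ z ∈ Z, x ^ i * z * (x ^ i)⁻¹ * z⁻¹ ∉ K) :
    CData x Z K r (orderOf x) 0 1 Z where
  order := by rw [pow_zero, mul_one]
  le := by rw [pow_zero]
  ndvd := hrZ
  fix := by
    intro z hz
    rw [pow_orderOf_eq_one, inv_one, one_mul, mul_one, mul_inv_cancel]
    exact K.one_mem
  move := move
  leE := le_refl _
  central := hZ
  comm := fun e he f hf => Z.mul_mem (Z.mul_mem (Z.mul_mem he hf) (Z.inv_mem he)) (Z.inv_mem hf)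
  card := by rw [one_pow, one_mul]
  nondeg := fun e he _ => he
  norm := by
    intro e he
    rw [pow_orderOf_eq_one, inv_one, one_mul, mul_one]
    exact he
  semi := by
    intro e he he'
    exact absurd he he'

theorem conj_mem_aux {Z : Subgroup L} {x : L} (hx : ∀ z ∈ Z, x * z * x⁻¹ ∈ Z) : ∀ z ∈ Z, x⁻¹ * z * x ∈ Z := by
  intro z hz
  let f : Z → Z := fun b => ⟨x * b * x⁻¹, hx b b.2⟩
  have hf' : Function.Injective f := by
    intro x y hxy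
    have h1 := congrArg Subtype.val hxy
    exact Subtype.ext (mul_left_cancel (mul_right_cancel h1))
  obtain ⟨b, hb⟩ := (Finite.injective_iff_surjective.1 hf') ⟨z, hz⟩
  have h1 : x * (b : L) * x⁻¹ = z := congrArg Subtype.val hb
  rw [← h1]
  have : x⁻¹ * (x * (b : L) * x⁻¹) * x = b := by group
  rw [this]
  exact b.2

theorem conj_pow_mem_aux {Z : Subgroup L} {x : L} (hx : ∀ z ∈ Z, x * z * x⁻¹ ∈ Z) (i : ℕ) :
    ∀ z ∈ Z, x ^ i * z * (x ^ i)⁻¹ ∈ Z := by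
  induction i with
  | zero => intro z hz; simpa using hz
  | succ i ih =>
    intro z hz
    convert ih _ (hx z hz) using 1
    rw [pow_succ]
    group

/-- fixing and moving in terms of the kernel -/
theorem fix_move_aux {k : Type u} [Field k] {Z : Subgroup L} {ψ : Z →* kˣ} {x : L}
    (hx : ∀ z ∈ Z, x * z * x⁻¹ ∈ Z) (i : ℕ) {K : Subgroup L} (hK : ∀ z : Z, (z : L) ∈ K ↔ ψ z = 1) :
    ((∀ z ∈ Z, x ^ i * z * (x ^ i)⁻¹ * z⁻¹ ∈ K) → ∀ z z' : Z, (z' : L) = (x ^ i)⁻¹ * z * x ^ i → ψ z' = ψ z) ∧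
    ((∃ z ∈ Z, x ^ i * z * (x ^ i)⁻¹ * z⁻¹ ∉ K) → ∃ z : Z, ∃ z' : Z, (z' : L) = (x ^ i)⁻¹ * z * x ^ i ∧ ψ z' ≠ ψ z) := by
  have hxi := conj_pow_mem_aux hx i
  constructor
  · intro h z z' hz
    have h1 := h z' z'.2
    have h2 : x ^ i * (z' : L) * (x ^ i)⁻¹ = z := by rw [hz]; group
    rw [h2, show (z : L) * (z' : L)⁻¹ = ((z * z'⁻¹ : Z) : L) from rfl, hK, map_mul, map_inv, mul_inv_eq_one] at h1
    exact h1.symm
  · rintro ⟨z, hz, h⟩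
    refine ⟨⟨_, hxi z hz⟩, ⟨z, hz⟩, ?_, fun h1 => h ?_⟩
    · change z = (x ^ i)⁻¹ * (x ^ i * z * (x ^ i)⁻¹) * x ^ i
      group
    · rw [show x ^ i * z * (x ^ i)⁻¹ * z⁻¹ = (((⟨_, hxi z hz⟩ : Z) * (⟨z, hz⟩ : Z)⁻¹ : Z) : L) from rfl, hK, map_mul,
        map_inv, h1, mul_inv_cancel]

/-- **TOOL C.** For every kernel `K` of a character of `Z` with `z₀ ∉ K` (so `Z / K` is cyclic) there are data
`CData x Z K r n j N E`: then the norm of `x` is not zero. -/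
theorem norm_ne_C {r : ℕ} (hr : r.Prime) (hW : ∀ w : W, r • w = 0) (φ : L →* AddMonoid.End W) {Z : Subgroup L}
    (hZ : ∀ a ∈ Z, ∀ b ∈ Z, a * b = b * a) (hrZ : ¬ r ∣ Nat.card Z) {z₀ : L} (hz₀ : z₀ ∈ Z) (hφ : φ z₀ ≠ 1) {x : L}
    (hx : ∀ z ∈ Z, x * z * x⁻¹ ∈ Z)
    (H : ∀ K : Subgroup L, K ≤ Z → z₀ ∉ K → (∃ g ∈ Z, ∀ z ∈ Z, ∃ i : ℕ, z * (g ^ i)⁻¹ ∈ K) →
      ∃ (n j N : ℕ) (E : Subgroup L), CData x Z K r n j N E) :
    ∃ w : W, ∑ i ∈ range (orderOf x), φ (x ^ i) w ≠ 0 := by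
  have : Fact r.Prime := ⟨hr⟩
  obtain ⟨k, _, _, _⟩ := exists_field r hr
  refine norm_ne_of_char (k := k) hr hW φ hZ hrZ ⟨z₀, hz₀⟩ hφ (conj_mem_aux hx) ?_
  intro ψ hψ hU
  obtain ⟨hK1, hK2⟩ := ker_char ψ
  set K := ψ.ker.map Z.subtype with hKdef
  have hKZ : K ≤ Z := by
    rintro _ ⟨z, _, rfl⟩
    exact z.2
  obtain ⟨n, j, N, E, D⟩ := H K hKZ (fun h => hψ ((hK1 ⟨z₀, hz₀⟩).1 h)) hK2
  have hfix := (fix_move_aux hx n hK1).1 D.fix
  refine ⟨n, r ^ j, D.order, fun i hi0 hin => (fix_move_aux hx i hK1).2 (D.move i hi0 hin), hfix, ?_⟩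
  refine norm_C (rho k φ) (N := N) (E := E) rfl D.le D.ndvd hU D.leE D.central D.comm D.card ?_ D.norm
    (conj_mem_aux (conj_pow_mem_aux hx n)) hfix ?_
  · intro e he h
    apply D.nondeg e he
    intro f hf
    have h1 := D.comm f hf e he
    have h2 := h f hf ⟨_, h1⟩ rfl
    exact (hK1 ⟨_, h1⟩).2 h2
  · intro e he heZ i hi0 hi
    have h1 := D.semi e he heZ i hi0 hi
    rwa [pow_mul] at h1

/-- The data for TOOL C in the orbit form (`x ^ n` need not be semiregular on `E / Z`): the inequality says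
`(m - 1) * (number of orbits of ⟨x ^ n⟩ on E / Z) < |E / Z|`, `m = r ^ j`, by Burnside's lemma. -/
structure OData (x : L) (Z K : Subgroup L) (r : ℕ) (n j : ℕ) (E : Subgroup L) : Prop where
  order : orderOf x = n * r ^ j
  ndvd : ¬ r ∣ Nat.card E
  fix : ∀ z ∈ Z, x ^ n * z * (x ^ n)⁻¹ * z⁻¹ ∈ K
  move : ∀ i, 0 < i → i < n → ∃ z ∈ Z, x ^ i * z * (x ^ i)⁻¹ * z⁻¹ ∉ K
  leE : Z ≤ E
  central : ∀ e ∈ E, ∀ z ∈ Z, e * z = z * e
  comm : ∀ e ∈ E, ∀ f ∈ E, e * f * e⁻¹ * f⁻¹ ∈ Z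
  nondeg : ∀ e ∈ E, (∀ f ∈ E, f * e * f⁻¹ * e⁻¹ ∈ K) → e ∈ Z
  norm : ∀ e ∈ E, x ^ n * e * (x ^ n)⁻¹ ∈ E
  orbits : (r ^ j - 1) * ∑ i ∈ range (r ^ j),
    Nat.card {e : E // (e : L)⁻¹ * (x ^ (n * i) * e * (x ^ (n * i))⁻¹) ∈ Z} < r ^ j * Nat.card E

/-- **TOOL C, orbit form.** -/
theorem norm_ne_O {r : ℕ} (hr : r.Prime) (hW : ∀ w : W, r • w = 0) (φ : L →* AddMonoid.End W) {Z : Subgroup L}
    (hZ : ∀ a ∈ Z, ∀ b ∈ Z, a * b = b * a) (hrZ : ¬ r ∣ Nat.card Z) {z₀ : L} (hz₀ : z₀ ∈ Z) (hφ : φ z₀ ≠ 1) {x : L}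
    (hx : ∀ z ∈ Z, x * z * x⁻¹ ∈ Z)
    (H : ∀ K : Subgroup L, K ≤ Z → z₀ ∉ K → (∃ g ∈ Z, ∀ z ∈ Z, ∃ i : ℕ, z * (g ^ i)⁻¹ ∈ K) →
      ∃ (n j : ℕ) (E : Subgroup L), OData x Z K r n j E) :
    ∃ w : W, ∑ i ∈ range (orderOf x), φ (x ^ i) w ≠ 0 := by
  have : Fact r.Prime := ⟨hr⟩
  obtain ⟨k, _, _, _⟩ := exists_field r hr
  refine norm_ne_of_char (k := k) hr hW φ hZ hrZ ⟨z₀, hz₀⟩ hφ (conj_mem_aux hx) ?_
  intro ψ hψ hU
  obtain ⟨hK1, hK2⟩ := ker_char ψ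
  set K := ψ.ker.map Z.subtype with hKdef
  have hKZ : K ≤ Z := by
    rintro _ ⟨z, _, rfl⟩
    exact z.2
  obtain ⟨n, j, E, D⟩ := H K hKZ (fun h => hψ ((hK1 ⟨z₀, hz₀⟩).1 h)) hK2
  have hfix := (fix_move_aux hx n hK1).1 D.fix
  refine ⟨n, r ^ j, D.order, fun i hi0 hin => (fix_move_aux hx i hK1).2 (D.move i hi0 hin), hfix, ?_⟩
  refine norm_O (rho k φ) (E := E) rfl D.ndvd hU D.leE D.central D.comm ?_ D.norm
    (conj_mem_aux (conj_pow_mem_aux hx n)) hfix ?_ ?_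
  · intro e he h
    apply D.nondeg e he
    intro f hf
    have h1 := D.comm f hf e he
    have h2 := h f hf ⟨_, h1⟩ rfl
    exact (hK1 ⟨_, h1⟩).2 h2
  · rw [← pow_mul, ← D.order, pow_orderOf_eq_one]
  · have h1 := D.orbits
    simpa only [pow_mul] using h1

/-- The data for TOOL C, the stabiliser of the character has order `2 * r ^ j`, `r` odd. -/
structure TData (x : L) (Z K : Subgroup L) (r : ℕ) (n j N : ℕ) (E : Subgroup L) : Prop where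
  order : orderOf x = n * (2 * r ^ j)
  le : 2 * r ^ j + 1 ≤ N
  ndvd : ¬ r ∣ Nat.card E
  fix : ∀ z ∈ Z, x ^ n * z * (x ^ n)⁻¹ * z⁻¹ ∈ K
  move : ∀ i, 0 < i → i < n → ∃ z ∈ Z, x ^ i * z * (x ^ i)⁻¹ * z⁻¹ ∉ K
  leE : Z ≤ E
  central : ∀ e ∈ E, ∀ z ∈ Z, e * z = z * e
  comm : ∀ e ∈ E, ∀ f ∈ E, e * f * e⁻¹ * f⁻¹ ∈ Z
  card : Nat.card E = N ^ 2 * Nat.card Z
  nondeg : ∀ e ∈ E, (∀ f ∈ E, f * e * f⁻¹ * e⁻¹ ∈ K) → e ∈ Z
  norm : ∀ e ∈ E, x ^ n * e * (x ^ n)⁻¹ ∈ E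
  semi : ∀ e ∈ E, e ∉ Z → ∀ i, 0 < i → i < 2 * r ^ j → e⁻¹ * (x ^ (n * i) * e * (x ^ (n * i))⁻¹) ∉ Z

/-- **TOOL C, stabiliser of order `2 * r ^ j`.** -/
theorem norm_ne_T {r : ℕ} (hr : r.Prime) (hr2 : r ≠ 2) (hW : ∀ w : W, r • w = 0) (φ : L →* AddMonoid.End W)
    {Z : Subgroup L} (hZ : ∀ a ∈ Z, ∀ b ∈ Z, a * b = b * a) (hrZ : ¬ r ∣ Nat.card Z) {z₀ : L} (hz₀ : z₀ ∈ Z)
    (hφ : φ z₀ ≠ 1) {x : L} (hx : ∀ z ∈ Z, x * z * x⁻¹ ∈ Z)
    (H : ∀ K : Subgroup L, K ≤ Z → z₀ ∉ K → (∃ g ∈ Z, ∀ z ∈ Z, ∃ i : ℕ, z * (g ^ i)⁻¹ ∈ K) →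
      ∃ (n j N : ℕ) (E : Subgroup L), TData x Z K r n j N E) :
    ∃ w : W, ∑ i ∈ range (orderOf x), φ (x ^ i) w ≠ 0 := by
  have : Fact r.Prime := ⟨hr⟩
  obtain ⟨k, _, _, _⟩ := exists_field r hr
  refine norm_ne_of_char (k := k) hr hW φ hZ hrZ ⟨z₀, hz₀⟩ hφ (conj_mem_aux hx) ?_
  intro ψ hψ hU
  obtain ⟨hK1, hK2⟩ := ker_char ψ
  set K := ψ.ker.map Z.subtype with hKdef
  have hKZ : K ≤ Z := by
    rintro _ ⟨z, _, rfl⟩
    exact z.2
  obtain ⟨n, j, N, E, D⟩ := H K hKZ (fun h => hψ ((hK1 ⟨z₀, hz₀⟩).1 h)) hK2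
  have hfix := (fix_move_aux hx n hK1).1 D.fix
  refine ⟨n, 2 * r ^ j, D.order, fun i hi0 hin => (fix_move_aux hx i hK1).2 (D.move i hi0 hin), hfix, ?_⟩
  refine norm_CO3 (rho k φ) (j := j) (E := E) D.ndvd hU D.leE D.central D.comm ?_ D.norm
    (conj_mem_aux (conj_pow_mem_aux hx n)) hfix (Or.inr (Or.inr ⟨rfl, hr2, ?_, N, D.le, D.card, ?_⟩))
  · intro e he h
    apply D.nondeg e he
    intro f hf
    have h1 := D.comm f hf e he
    have h2 := h f hf ⟨_, h1⟩ rfl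
    exact (hK1 ⟨_, h1⟩).2 h2
  · rw [← pow_mul, ← D.order, pow_orderOf_eq_one]
  · intro e he heZ i hi0 hi
    have h1 := D.semi e he heZ i hi0 hi
    rwa [pow_mul] at h1

/-- The data for TOOL B. -/
structure BData (x : L) (Z K : Subgroup L) (n : ℕ) (Q : Subgroup L) : Prop where
  order : orderOf x = n * 2
  odd : ¬ 2 ∣ Nat.card Q
  fix : ∀ z ∈ Z, x ^ n * z * (x ^ n)⁻¹ * z⁻¹ ∈ K
  move : ∀ i, 0 < i → i < n → ∃ z ∈ Z, x ^ i * z * (x ^ i)⁻¹ * z⁻¹ ∉ K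
  central : ∀ e ∈ Q, ∀ z ∈ Z, e * z = z * e
  inverts : ∀ e ∈ Q, (x ^ n) * e * (x ^ n)⁻¹ * e ∈ Z
  comm : ∃ e ∈ Q, ∃ f ∈ Q, e * f * e⁻¹ * f⁻¹ ∈ Z ∧ e * f * e⁻¹ * f⁻¹ ∉ K

/-- **TOOL B.** -/
theorem norm_ne_B (hW : ∀ w : W, 2 • w = 0) (φ : L →* AddMonoid.End W) {Z : Subgroup L}
    (hZ : ∀ a ∈ Z, ∀ b ∈ Z, a * b = b * a) (hrZ : ¬ 2 ∣ Nat.card Z) {z₀ : L} (hz₀ : z₀ ∈ Z) (hφ : φ z₀ ≠ 1) {x : L}
    (hx : ∀ z ∈ Z, x * z * x⁻¹ ∈ Z)
    (H : ∀ K : Subgroup L, K ≤ Z → z₀ ∉ K → (∃ g ∈ Z, ∀ z ∈ Z, ∃ i : ℕ, z * (g ^ i)⁻¹ ∈ K) →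
      ∃ (n : ℕ) (Q : Subgroup L), BData x Z K n Q) :
    ∃ w : W, ∑ i ∈ range (orderOf x), φ (x ^ i) w ≠ 0 := by
  have : Fact (Nat.Prime 2) := ⟨Nat.prime_two⟩
  obtain ⟨k, _, _, _⟩ := exists_field 2 Nat.prime_two
  refine norm_ne_of_char (k := k) Nat.prime_two hW φ hZ hrZ ⟨z₀, hz₀⟩ hφ (conj_mem_aux hx) ?_
  intro ψ hψ hU
  obtain ⟨hK1, hK2⟩ := ker_char ψ
  set K := ψ.ker.map Z.subtype with hKdef
  have hKZ : K ≤ Z := by
    rintro _ ⟨z, _, rfl⟩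
    exact z.2
  obtain ⟨n, Q, D⟩ := H K hKZ (fun h => hψ ((hK1 ⟨z₀, hz₀⟩).1 h)) hK2
  have hfix := (fix_move_aux hx n hK1).1 D.fix
  refine ⟨n, 2, D.order, fun i hi0 hin => (fix_move_aux hx i hK1).2 (D.move i hi0 hin), hfix, ?_⟩
  by_contra hcon
  push Not at hcon
  -- `x ^ n` is trivial on the eigenspace
  set c := x ^ n with hc
  set ρ := rho k φ with hρ
  have htriv : ∀ v ∈ eig ρ Z ψ, ρ c v = v := by
    intro v hv
    have h1 := hcon v hv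
    rw [Finset.sum_range_succ, Finset.sum_range_one, pow_zero, pow_one, rone] at h1
    have h2 : v + v = 0 := by
      have h3 : (2 : k) = 0 := CharP.cast_eq_zero k 2
      rw [← two_smul k v, h3, zero_smul]
    exact (add_left_cancel (h2.trans h1.symm)).symm
  have hcinv : ∀ v ∈ eig ρ Z ψ, ρ c⁻¹ v = v := by
    intro v hv
    conv_lhs => rw [← htriv v hv]
    rw [← rmul, inv_mul_cancel, rone]
  have hQU : ∀ e ∈ Q, ∀ v ∈ eig ρ Z ψ, ρ e v ∈ eig ρ Z ψ := fun e he => mem_stab_of_comm ρ (D.central e he)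
  -- `e ^ 2` is a scalar
  have hsq : ∀ e ∈ Q, ∃ a : kˣ, ∀ v ∈ eig ρ Z ψ, ρ (e ^ 2) v = (a : k) • v := by
    intro e he
    refine ⟨ψ ⟨_, D.inverts e he⟩, fun v hv => ?_⟩
    have h1 := hv ⟨_, D.inverts e he⟩
    change ρ (c * e * c⁻¹ * e) v = _ at h1
    rw [← h1, rmul, rmul, rmul, hcinv _ (hQU e he v hv), htriv _ (hQU e he _ (hQU e he v hv)), ← rmul, pow_two]
  -- so is `e`
  have hsc : ∀ e ∈ Q, ∃ a : kˣ, ∀ v ∈ eig ρ Z ψ, ρ e v = (a : k) • v := by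
    intro e he
    obtain ⟨a, ha⟩ := hsq e he
    have hodd : ∃ j : ℕ, e = (e ^ 2) ^ j := by
      have h1 : e ^ Nat.card Q = 1 := by
        have := congrArg Subtype.val (pow_card_eq_one' (x := (⟨e, he⟩ : Q)))
        rwa [Subgroup.coe_pow, Subgroup.coe_one] at this
      have h2 : Nat.card Q % 2 = 1 := by
        have := D.odd
        omega
      refine ⟨(Nat.card Q + 1) / 2, ?_⟩
      rw [← pow_mul]
      have h3 : 2 * ((Nat.card Q + 1) / 2) = Nat.card Q + 1 := by omega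
      rw [h3, pow_succ, h1, one_mul]
    obtain ⟨j, hj⟩ := hodd
    have hpow : ∀ j : ℕ, ∀ v ∈ eig ρ Z ψ, ρ ((e ^ 2) ^ j) v = ((a ^ j : kˣ) : k) • v := by
      intro j v hv
      induction j with
      | zero => rw [pow_zero, rone, pow_zero, Units.val_one, one_smul]
      | succ j ih => rw [pow_succ', rmul, ih, map_smul, ha v hv, smul_smul, pow_succ, Units.val_mul]
    refine ⟨a ^ j, fun v hv => ?_⟩
    conv_lhs => rw [hj]
    exact hpow j v hv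
  obtain ⟨e, he, f, hf, h1, h2⟩ := D.comm
  apply h2
  refine (hK1 ⟨_, h1⟩).2 ?_
  obtain ⟨v, hv, hv0⟩ := Submodule.exists_mem_ne_zero_of_ne_bot hU
  obtain ⟨a, ha⟩ := hsc e he
  obtain ⟨b, hb⟩ := hsc f hf
  have h3 := hv ⟨_, h1⟩
  have h4 : ρ (e * f * e⁻¹ * f⁻¹) (ρ (f * e) v) = ρ (f * e) v := by
    rw [← rmul]
    have h5 : e * f * e⁻¹ * f⁻¹ * (f * e) = e * f := by group
    rw [h5, rmul, rmul, hb v hv, ha v hv, map_smul, map_smul, ha v hv, hb v hv, smul_comm]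
  have h5 : ρ (f * e) v ∈ eig ρ Z ψ := hQU _ (Q.mul_mem hf he) v hv
  have h6 : ρ (f * e) v ≠ 0 := by
    intro h7
    apply hv0
    have h8 := congrArg (ρ (f * e)⁻¹) h7
    rwa [← rmul, inv_mul_cancel, rone, map_zero] at h8
  have h7 := h5 ⟨_, h1⟩
  change ρ (e * f * e⁻¹ * f⁻¹) (ρ (f * e) v) = _ at h7
  rw [h4] at h7
  have h8 : ((1 : k) - (ψ ⟨_, h1⟩ : k)) • ρ (f * e) v = 0 := by
    rw [sub_smul, one_smul, ← h7, sub_self]
  have h9 := sub_eq_zero.1 ((smul_eq_zero.1 h8).resolve_right h6)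
  exact Units.ext h9.symm

end fin

end Cfsg.Agent.H377.CV
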